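import Groth.Agent.PolLib.FlatTS
import Mathlib.LinearAlgebra.TensorProduct.Finiteness
import Mathlib.LinearAlgebra.DirectSum.Finsupp
import Mathlib.LinearAlgebra.TensorProduct.Basis

/-! Symmetric tensors of a flat module commute with tensoring by any module. -/

universe u v w

open scoped TensorProduct

namespace Groth.Agent.PolLib

variable {A : Type u} [CommRing A] {M : Type u} [AddCommGroup M] [Module A M] {d : ℕ}

variable (A) in
/-- The projection of the tensor power of a free module onto its symmetric tensors. -/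
noncomputable def symProj (m d : ℕ) : (⨂[A]^d (Fin m → A)) →ₗ[A] (⨂[A]^d (Fin m → A)) :=
  (SymTen.TS A (Fin m → A) d).val.toLinearMap.comp (retr (Pi.basisFun A (Fin m)))

theorem symProj_invariant {m : ℕ} (t : ⨂[A]^d (Fin m → A)) (σ : Equiv.Perm (Fin d)) :
    PiTensorProduct.reindex A (fun _ : Fin d => Fin m → A) σ (symProj A m d t) = symProj A m d t :=
  (retr (Pi.basisFun A (Fin m)) t).2 σ

theorem symProj_of_invariant {m : ℕ} (t : ⨂[A]^d (Fin m → A))
    (ht : ∀ σ, PiTensorProduct.reindex A (fun _ : Fin d => Fin m → A) σ t = t) :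
    symProj A m d t = t :=
  congrArg Subtype.val (retr_val (Pi.basisFun A (Fin m)) ⟨t, ht⟩)

theorem lTensor_symProj_of_invariant {m : ℕ} (N : Type u) [AddCommGroup N] [Module A N]
    (z : N ⊗[A] ⨂[A]^d (Fin m → A))
    (hz : ∀ σ, (PiTensorProduct.reindex A (fun _ : Fin d => Fin m → A) σ).toLinearMap.lTensor N z = z) :
    (symProj A m d).lTensor N z = z := by
  classical
  let β := beta (Pi.basisFun A (Fin m)) d
  have hco : ∀ (c : Fin d → Fin m) (w : N ⊗[A] ⨂[A]^d (Fin m → A)),
      TensorProduct.equivFinsuppOfBasisRight β w c = TensorProduct.rid A N ((β.coord c).lTensor N w) := by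
    intro c w
    induction w using TensorProduct.induction_on with
    | zero => simp
    | tmul n t => simp
    | add x y hx hy => simp only [map_add, Finsupp.add_apply, hx, hy]
  refine (TensorProduct.equivFinsuppOfBasisRight β).injective (Finsupp.ext fun c => ?_)
  rw [hco, hco]
  congr 1
  rw [← LinearMap.lTensor_comp_apply]
  have h1 : (β.coord c).comp (symProj A m d) = β.coord (rep (cls c)) :=
    LinearMap.ext (coord_retr (Pi.basisFun A (Fin m)) c)
  rw [h1]
  obtain ⟨σ, hσ⟩ := cls_eq_iff.mp (cls_rep (cls c))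
  have h2 : (β.coord (rep (cls c))).comp
      (PiTensorProduct.reindex A (fun _ : Fin d => Fin m → A) σ).toLinearMap = β.coord c := by
    refine LinearMap.ext fun t => ?_
    rw [LinearMap.comp_apply, LinearEquiv.coe_coe, coord_reindex, ← hσ]
  rw [← h2, LinearMap.lTensor_comp_apply, hz σ]

theorem exists_tp_lift_pair {n n' : ℕ} (f : (Fin n → A) →ₗ[A] M) (f' : (Fin n' → A) →ₗ[A] M) :
    ∃ (F : (Fin (n + n') → A) →ₗ[A] M) (i₁ : (Fin n → A) →ₗ[A] (Fin (n + n') → A))
      (i₂ : (Fin n' → A) →ₗ[A] (Fin (n + n') → A)), F.comp i₁ = f ∧ F.comp i₂ = f' := by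
  classical
  refine ⟨(Pi.basisFun A (Fin (n + n'))).constr A
        (Fin.append (fun k => f (Pi.basisFun A _ k)) fun k => f' (Pi.basisFun A _ k)),
    (Pi.basisFun A (Fin n)).constr A fun k => Pi.basisFun A _ (Fin.castAdd n' k),
    (Pi.basisFun A (Fin n')).constr A fun k => Pi.basisFun A _ (Fin.natAdd n k),
    (Pi.basisFun A (Fin n)).ext fun k => ?_, (Pi.basisFun A (Fin n')).ext fun k => ?_⟩
  · simp only [LinearMap.comp_apply, Module.Basis.constr_basis, Fin.append_left]
  · simp only [LinearMap.comp_apply, Module.Basis.constr_basis, Fin.append_right]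

theorem exists_lTensor_tp_lift (N : Type u) [AddCommGroup N] [Module A N] (z : N ⊗[A] ⨂[A]^d M) :
    ∃ (n : ℕ) (f : (Fin n → A) →ₗ[A] M) (t : N ⊗[A] ⨂[A]^d (Fin n → A)), (tp d f).lTensor N t = z := by
  classical
  induction z using TensorProduct.induction_on with
  | zero => exact ⟨0, 0, 0, map_zero _⟩
  | add u v hu hv =>
    obtain ⟨n, f, t, rfl⟩ := hu
    obtain ⟨n', f', t', rfl⟩ := hv
    obtain ⟨F, i₁, i₂, h1, h2⟩ := exists_tp_lift_pair f f'
    refine ⟨_, F, (tp d i₁).lTensor N t + (tp d i₂).lTensor N t', ?_⟩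
    rw [map_add, ← LinearMap.lTensor_comp_apply, ← tp_comp, h1, ← LinearMap.lTensor_comp_apply, ← tp_comp, h2]
  | tmul x z =>
    induction z using PiTensorProduct.induction_on with
    | smul_tprod r y =>
      refine ⟨d, (Pi.basisFun A (Fin d)).constr A y,
        x ⊗ₜ[A] (r • PiTensorProduct.tprod A fun i => Pi.basisFun A (Fin d) i), ?_⟩
      rw [LinearMap.lTensor_tmul, map_smul, tp_tprod]
      simp only [Module.Basis.constr_basis]
    | add u v hu hv =>
      obtain ⟨n, f, t, ht⟩ := hu
      obtain ⟨n', f', t', ht'⟩ := hv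
      obtain ⟨F, i₁, i₂, h1, h2⟩ := exists_tp_lift_pair f f'
      refine ⟨_, F, (tp d i₁).lTensor N t + (tp d i₂).lTensor N t', ?_⟩
      rw [map_add, ← LinearMap.lTensor_comp_apply, ← tp_comp, h1, ← LinearMap.lTensor_comp_apply, ← tp_comp, h2,
        ht, ht', TensorProduct.tmul_add]

/-- Kill a finite family at once. -/
theorem kill_family [Module.Flat A M] {ι : Type u} [Fintype ι] (N : Type u) [AddCommGroup N] [Module A N]
    {n : ℕ} (f : (Fin n → A) →ₗ[A] M) (u : ι → N ⊗[A] ⨂[A]^d (Fin n → A))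
    (hu : ∀ i, (tp d f).lTensor N (u i) = 0) :
    ∃ (m : ℕ) (h : (Fin n → A) →ₗ[A] (Fin m → A)) (g : (Fin m → A) →ₗ[A] M),
      g.comp h = f ∧ ∀ i, (tp d h).lTensor N (u i) = 0 := by
  classical
  let U : (ι → N) ⊗[A] ⨂[A]^d (Fin n → A) :=
    ∑ i, (LinearMap.single A (fun _ : ι => N) i).rTensor _ (u i)
  have hU : (tp d f).lTensor (ι → N) U = 0 := by
    simp only [U, map_sum]
    refine Finset.sum_eq_zero fun i _ => ?_
    rw [← LinearMap.comp_apply, LinearMap.lTensor_comp_rTensor, ← LinearMap.rTensor_comp_lTensor,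
      LinearMap.comp_apply, hu, map_zero]
  obtain ⟨m, h, g, hg, hh⟩ := kill d (ι → N) n f U hU
  refine ⟨m, h, g, hg, fun i => ?_⟩
  have key : (LinearMap.proj (R := A) (φ := fun _ : ι => N) i).rTensor _ U = u i := by
    simp only [U, map_sum, ← LinearMap.rTensor_comp_apply]
    rw [Finset.sum_eq_single i]
    · rw [LinearMap.proj_comp_single_same, LinearMap.rTensor_id_apply]
    · intro j _ hj
      rw [LinearMap.proj_comp_single_ne A (fun _ : ι => N) i j (Ne.symm hj), LinearMap.rTensor_zero,
        LinearMap.zero_apply]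
    · simp
  rw [← key, ← LinearMap.comp_apply, LinearMap.lTensor_comp_rTensor, ← LinearMap.rTensor_comp_lTensor,
    LinearMap.comp_apply, hh, map_zero]

/-- **Symmetric tensors of a flat module commute with tensor products.** -/
theorem invSub_lTensor [Module.Flat A M] (N : Type u) [AddCommGroup N] [Module A N] :
    Function.Injective ((invSub A M d).subtype.lTensor N) ∧
      ∀ z : N ⊗[A] ⨂[A]^d M,
        (∀ σ, (PiTensorProduct.reindex A (fun _ : Fin d => M) σ).toLinearMap.lTensor N z = z) →
          z ∈ Set.range ((invSub A M d).subtype.lTensor N) := by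
  classical
  have hGmem : ∀ {m : ℕ} (g : (Fin m → A) →ₗ[A] M) (t : ⨂[A]^d (Fin m → A)),
      ((tp d g).comp (symProj A m d)) t ∈ invSub A M d := fun g t => mem_invSub.mpr fun σ => by
    rw [LinearMap.comp_apply, ← tp_reindex, symProj_invariant]
  refine ⟨(injective_iff_map_eq_zero _).mpr fun w hw => ?_, fun z hz => ?_⟩
  · obtain ⟨s, rfl⟩ := TensorProduct.exists_finset w
    let e := s.equivFin
    let x : Fin s.card → N := fun a => (e.symm a).1.1
    let zz : Fin s.card → invSub A M d := fun a => (e.symm a).1.2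
    have hs : ∑ p ∈ s, p.1 ⊗ₜ[A] p.2 = ∑ a, x a ⊗ₜ[A] zz a := by
      rw [← Finset.sum_coe_sort s (fun p => p.1 ⊗ₜ[A] p.2), ← e.symm.sum_comp]
    obtain ⟨n, f, t, ht, hft⟩ := exists_invariant_lift_family (fun a => (zz a).1) fun a => mem_invSub.mp (zz a).2
    have hu : (tp d f).lTensor N (∑ a, x a ⊗ₜ[A] t a) = 0 := by
      rw [← hw, hs, map_sum, map_sum]
      exact Finset.sum_congr rfl fun a _ => by simp [hft]
    obtain ⟨m, h, g, hg, hh⟩ := kill d N n f _ hu
    let G : (⨂[A]^d (Fin m → A)) →ₗ[A] invSub A M d :=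
      ((tp d g).comp (symProj A m d)).codRestrict _ (hGmem g)
    have hG : ∀ a, G (tp d h (t a)) = zz a := fun a => Subtype.ext (by
      show tp d g (symProj A m d (tp d h (t a))) = (zz a).1
      rw [symProj_of_invariant _ (fun σ => by rw [← tp_reindex, ht]), ← LinearMap.comp_apply, ← tp_comp, hg, hft])
    rw [hs]
    calc ∑ a, x a ⊗ₜ[A] zz a = G.lTensor N ((tp d h).lTensor N (∑ a, x a ⊗ₜ[A] t a)) := by
          simp only [map_sum, LinearMap.lTensor_tmul, hG]
      _ = 0 := by rw [hh, map_zero]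
  · obtain ⟨n, f, t, rfl⟩ := exists_lTensor_tp_lift N z
    obtain ⟨m, h, g, hg, hh⟩ := kill_family (ι := ULift.{u} (Equiv.Perm (Fin d))) N f
      (fun σ => (PiTensorProduct.reindex A (fun _ : Fin d => Fin n → A) σ.down).toLinearMap.lTensor N t - t)
      (fun σ => by
        rw [map_sub, sub_eq_zero, ← LinearMap.lTensor_comp_apply,
          show (tp d f).comp (PiTensorProduct.reindex A (fun _ : Fin d => Fin n → A) σ.down).toLinearMap =
            (PiTensorProduct.reindex A (fun _ : Fin d => M) σ.down).toLinearMap.comp (tp d f) from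
            LinearMap.ext (tp_reindex d f σ.down), LinearMap.lTensor_comp_apply, hz])
    let t' := (tp d h).lTensor N t
    have ht' : ∀ σ, (PiTensorProduct.reindex A (fun _ : Fin d => Fin m → A) σ).toLinearMap.lTensor N t' = t' := fun σ => by
      have := hh ⟨σ⟩
      rw [map_sub, sub_eq_zero, ← LinearMap.lTensor_comp_apply] at this
      simp only [t']
      rw [← LinearMap.lTensor_comp_apply,
        show (PiTensorProduct.reindex A (fun _ : Fin d => Fin m → A) σ).toLinearMap.comp (tp d h) =
          (tp d h).comp (PiTensorProduct.reindex A (fun _ : Fin d => Fin n → A) σ).toLinearMap from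
          LinearMap.ext fun y => (tp_reindex d h σ y).symm]
      exact this
    refine ⟨(((tp d g).comp (symProj A m d)).codRestrict _ (hGmem g)).lTensor N t', ?_⟩
    rw [← LinearMap.lTensor_comp_apply, LinearMap.subtype_comp_codRestrict, LinearMap.lTensor_comp_apply,
      lTensor_symProj_of_invariant N t' ht', ← LinearMap.lTensor_comp_apply, ← tp_comp, hg]

end Groth.Agent.PolLib
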