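import Groth.Agent.PolLib.Fibres
import Groth.Agent.PolLib.Idem
import Groth.Agent.PolLib.DetLaw
import Groth.Agent.S2733
import Mathlib.RingTheory.TotallySplit
import Mathlib.RingTheory.Norm.Basic
import Mathlib.LinearAlgebra.Matrix.Charpoly.Coeff
import Mathlib.RingTheory.Spectrum.Prime.FreeLocus

/-! The norm is the only degree-`rank` law of a finite étale algebra without kernel. -/

set_option linter.style.haveILetI false
set_option autoImplicit false

universe u

open scoped TensorProduct

namespace Groth.Agent.PolLib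

open PolLaw Polynomial

variable {A : Type u} [CommRing A] {B : Type u} [CommRing B] [Algebra A B] {d : ℕ}
  (F : MulLaw A B A d)

section Split

variable {R : Type u} [CommRing R] [Algebra A R] [IsLocalRing R]

/-- The value of a law at `1 - ε + X ε`. -/
noncomputable def pwR (ε : R ⊗[A] B) : R[X] :=
  evl F (Algebra.ofId A R[X])
    (rB B (IsScalarTower.toAlgHom A R R[X]) (1 - ε) + (X : R[X]) • rB B (IsScalarTower.toAlgHom A R R[X]) ε)

theorem evl_pwR (ε : R ⊗[A] B) {R₂ : Type u} [CommRing R₂] [Algebra A R₂] [Algebra R R₂] [IsScalarTower A R R₂]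
    (u : R₂) :
    evl F (Algebra.ofId A R₂)
      (rB B (IsScalarTower.toAlgHom A R R₂) (1 - ε) + u • rB B (IsScalarTower.toAlgHom A R R₂) ε) =
      aeval u (pwR F ε) := by
  have h : ((aeval u).restrictScalars A : R[X] →ₐ[A] R₂).comp (IsScalarTower.toAlgHom A R R[X]) =
      IsScalarTower.toAlgHom A R R₂ := AlgHom.ext fun r => by simp
  have h2 := evl_nat' F (Algebra.ofId A R[X]) (((aeval u).restrictScalars A : R[X] →ₐ[A] R₂))
    (g' := Algebra.ofId A R₂) (Subsingleton.elim _ _)
    (rB B (IsScalarTower.toAlgHom A R R[X]) (1 - ε) + (X : R[X]) • rB B (IsScalarTower.toAlgHom A R R[X]) ε)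
  rw [map_add, rB_smul, rB_rB, rB_rB, h] at h2
  simpa [pwR] using h2

theorem idem_local {a : R} (ha : a * a = a) : a = 0 ∨ a = 1 := by
  rcases IsLocalRing.isUnit_or_isUnit_one_sub_self a with h | h
  · exact Or.inr ((IsIdempotentElem.iff_eq_one_of_isUnit h).1 ha)
  · exact Or.inl (by
      have h2 : (1 - a) = 1 := (IsIdempotentElem.iff_eq_one_of_isUnit h).1 (show IsIdempotentElem a from ha).one_sub
      simpa using h2)

theorem exists_pwR_eq_pow {ε : R ⊗[A] B} (hε : ε * ε = ε) : ∃ k : ℕ, pwR F ε = X ^ k := by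
  classical
  set P := pwR F ε with hP
  have hmul : ∀ {R₂ : Type u} [CommRing R₂] [Algebra A R₂] [Algebra R R₂] [IsScalarTower A R R₂] (u v : R₂),
      aeval u P * aeval v P = aeval (u * v) P := by
    intro R₂ _ _ _ _ u v
    rw [hP, ← evl_pwR, ← evl_pwR, ← evl_pwR, ← evl_mul]
    congr 1
    have he : rB B (IsScalarTower.toAlgHom A R R₂) ε * rB B (IsScalarTower.toAlgHom A R R₂) ε =
        rB B (IsScalarTower.toAlgHom A R R₂) ε := by rw [← map_mul, hε]
    set e := rB B (IsScalarTower.toAlgHom A R R₂) ε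
    rw [map_sub, map_one]
    simp only [Algebra.smul_def, map_mul]
    linear_combination (1 - algebraMap R₂ (R₂ ⊗[A] B) u - algebraMap R₂ (R₂ ⊗[A] B) v
      + algebraMap R₂ (R₂ ⊗[A] B) u * algebraMap R₂ (R₂ ⊗[A] B) v) * he
  have h1 : P.eval 1 = 1 := by
    rw [← coe_aeval_eq_eval, hP, ← evl_pwR, one_smul, ← map_add, sub_add_cancel, map_one, evl_one]
  have hm2 := hmul (R₂ := R[X][X]) (Polynomial.C X) X
  have key : ∀ k l, P.coeff k * P.coeff l = if k = l then P.coeff l else 0 := by
    intro k l
    have e1 : aeval (Polynomial.C (X : R[X])) P = Polynomial.C P := by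
      rw [show Polynomial.C (X : R[X]) = IsScalarTower.toAlgHom R R[X] R[X][X] X from rfl,
        aeval_algHom_apply, aeval_X_left_apply]
      rfl
    have e2 : aeval (X : R[X][X]) P = P.map Polynomial.C := by
      rw [← aeval_map_algebraMap R[X], aeval_X_left_apply]
      rfl
    have e3 : aeval (Polynomial.C (X : R[X]) * X) P =
        P.sum fun n a => Polynomial.C (Polynomial.C a * X ^ n) * X ^ n := by
      rw [aeval_eq_sum_range' (Nat.lt_succ_self P.natDegree), P.sum_over_range (by simp)]
      refine Finset.sum_congr rfl fun n _ => ?_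
      rw [mul_pow, Algebra.smul_def, map_mul, map_pow, mul_assoc]
      rfl
    rw [e1, e2, e3] at hm2
    have h2 := congrArg (fun q => (q.coeff l).coeff k) hm2
    simp only [Polynomial.coeff_C_mul, Polynomial.coeff_map, Polynomial.sum,
      Polynomial.finsetSum_coeff, Polynomial.coeff_X_pow, mul_ite, mul_one, mul_zero,
      Polynomial.coeff_mul_C, apply_ite (fun q : R[X] => q.coeff k),
      Polynomial.coeff_zero] at h2
    rw [h2, Finset.sum_ite_eq]
    by_cases hl : l ∈ P.support
    · rw [if_pos hl]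
    · rw [if_neg hl, Polynomial.notMem_support_iff.mp hl, ite_self]
  have hid : ∀ k, P.coeff k = 0 ∨ P.coeff k = 1 := fun k =>
    idem_local (by have := key k k; rwa [if_pos rfl] at this)
  obtain ⟨k, hk⟩ : ∃ k, P.coeff k = 1 := by
    by_contra hne
    have : P = 0 := Polynomial.ext fun k => by
      rw [Polynomial.coeff_zero]
      exact (hid k).resolve_right fun h => hne ⟨k, h⟩
    rw [this, eval_zero] at h1
    exact zero_ne_one h1
  refine ⟨k, Polynomial.ext fun l => ?_⟩
  rw [coeff_X_pow]
  by_cases h : l = k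
  · rw [if_pos h, h, hk]
  · rw [if_neg h, ← one_mul (P.coeff l), ← hk, key, if_neg (Ne.symm h)]

theorem mem_kerBC_of_pwR_eq_one {ε : R ⊗[A] B} (hε : ε * ε = ε) (h : pwR F ε = 1) :
    ε ∈ PolLaw.kerBC F.law R := by
  refine mem_kerBC_of_evl F fun R₂ _ _ i g x w => ?_
  letI : Algebra R R₂ := i.toRingHom.toAlgebra
  haveI : IsScalarTower A R R₂ := IsScalarTower.of_algHom i
  have hi : IsScalarTower.toAlgHom A R R₂ = i := AlgHom.ext fun _ => rfl
  rw [Subsingleton.elim g (Algebra.ofId A R₂)]
  have h0 : evl F (Algebra.ofId A R₂) (rB B i (1 - ε)) = 1 := by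
    have h1 := evl_pwR F ε (0 : R₂)
    rw [h, map_one, zero_smul, add_zero, hi] at h1
    exact h1
  have hm : ∀ z, evl F (Algebra.ofId A R₂) z = evl F (Algebra.ofId A R₂) (z * rB B i (1 - ε)) := fun z => by
    rw [evl_mul, h0, mul_one]
  rw [hm (x + _), hm x, add_mul, mul_assoc, ← map_mul, mul_sub, mul_one, hε, sub_self, map_zero, mul_zero, add_zero]

theorem kerBC_le_nilradical (hF : PolLaw.ker F.law ≤ nilradical B) :
    PolLaw.kerBC F.law R ≤ nilradical (R ⊗[A] B) := by
  refine Ideal.le_radical.trans ?_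
  rw [radical_kerBC F R]
  refine (Ideal.radical_mono (?_ : _ ≤ nilradical (R ⊗[A] B))).trans (le_of_eq (Ideal.radical_idem _))
  rw [Ideal.map_le_iff_le_comap]
  intro b hb
  exact IsNilpotent.map (hF hb) _

theorem evl_eq_prod (hF : PolLaw.ker F.law ≤ nilradical B) {n : ℕ} (hn : n = d)
    (Φ : R ⊗[A] B ≃ₐ[R] (Fin n → R)) (x : R ⊗[A] B) :
    evl F (Algebra.ofId A R) x = ∏ i, Φ x i := by
  classical
  let ε : Fin n → R ⊗[A] B := fun i => Φ.symm (Pi.single i 1)
  have hε : ∀ i, ε i * ε i = ε i := fun i => by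
    rw [← map_mul, ← Pi.single_mul, mul_one]
  have hprod : ∀ a : Fin n → R, ∏ i, (1 - ε i + a i • ε i) = Φ.symm a := fun a => by
    apply Φ.injective
    rw [map_prod, AlgEquiv.apply_symm_apply]
    funext j
    rw [Finset.prod_apply, Finset.prod_eq_single j (fun i _ hi => by simp [ε, Ne.symm hi]) (by simp)]
    simp [ε]
  have hev : ∀ i (u : R), evl F (Algebra.ofId A R) (1 - ε i + u • ε i) = (pwR F (ε i)).eval u := fun i u => by
    have h := evl_pwR F (ε i) u
    have hid : IsScalarTower.toAlgHom A R R = AlgHom.id A R := AlgHom.ext fun _ => rfl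
    rw [hid, rB_id, rB_id] at h
    rw [h, coe_aeval_eq_eval]
  choose k hk using fun i => exists_pwR_eq_pow F (hε i)
  have hk1 : ∀ i, 1 ≤ k i := fun i => Nat.one_le_iff_ne_zero.2 fun h0 => by
    have hmem := mem_kerBC_of_pwR_eq_one F (hε i) (by rw [hk i, h0, pow_zero])
    obtain ⟨m, hm⟩ := kerBC_le_nilradical F hF hmem
    have hε0 : ε i = 0 := by
      cases m with
      | zero => rw [pow_zero] at hm; rw [← mul_one (ε i), hm, mul_zero]
      | succ m => rwa [(show IsIdempotentElem (ε i) from hε i).pow_succ_eq m] at hm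
    have := congrArg (fun z => Φ z i) hε0
    simp [ε] at this
  have hsum : ∑ i, k i = d := by
    let iX : R →ₐ[A] R[X] := IsScalarTower.toAlgHom A R R[X]
    have hX : ∏ i, (rB B iX (1 - ε i) + (X : R[X]) • rB B iX (ε i)) = (X : R[X]) • (1 : R[X] ⊗[A] B) := by
      let θ : R[X] ⊗[A] B →ₐ[A] R[X] ⊗[A] B := AlgHom.id A _
      have hsumε : ∑ i, ε i = 1 := by
        rw [← map_sum, Finset.univ_sum_single]
        exact map_one Φ.symm
      have horth : ∀ i j, i ≠ j → ε i * ε j = 0 := fun i j hij => by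
        rw [← map_mul, ← Pi.single_mul_right]
        simp [hij, Pi.single_apply]
      have hgen : ∀ s : Finset (Fin n), ∏ i ∈ s, (rB B iX (1 - ε i) + (X : R[X]) • rB B iX (ε i)) =
          1 - rB B iX (∑ i ∈ s, ε i) + (X : R[X]) • rB B iX (∑ i ∈ s, ε i) := by
        intro s
        induction s using Finset.induction with
        | empty => simp
        | insert a s ha ih =>
          have h0 : rB B iX (ε a) * rB B iX (∑ i ∈ s, ε i) = 0 := by
            rw [← map_mul, Finset.mul_sum, Finset.sum_eq_zero fun i hi => horth a i fun h => ha (h ▸ hi), map_zero]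
          rw [Finset.prod_insert ha, ih, Finset.sum_insert ha]
          simp only [map_add, map_sub, map_one, Algebra.smul_def]
          linear_combination (1 - algebraMap R[X] (R[X] ⊗[A] B) X) ^ 2 * h0
      rw [hgen, hsumε, map_one, sub_self, zero_add]
    have hv := congrArg (evl F (Algebra.ofId A R[X])) hX
    rw [evl_prod, evl_smul, evl_one, mul_one] at hv
    have hP : ∀ i, evl F (Algebra.ofId A R[X]) (rB B iX (1 - ε i) + (X : R[X]) • rB B iX (ε i)) = X ^ k i :=
      fun i => hk i
    rw [Finset.prod_congr rfl fun i _ => hP i, Finset.prod_pow_eq_pow_sum] at hv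
    have := congrArg natDegree hv
    rwa [natDegree_X_pow, natDegree_X_pow] at this
  have hk' : ∀ i, k i = 1 := by
    intro i
    have h1 : ∑ _j : Fin n, 1 = ∑ j : Fin n, k j := by rw [hsum]; simp [hn]
    exact ((Finset.sum_eq_sum_iff_of_le fun j _ => hk1 j).1 h1 i (Finset.mem_univ i)).symm
  conv_lhs => rw [← Φ.symm_apply_apply x, ← hprod]
  rw [evl_prod]
  refine Finset.prod_congr rfl fun i _ => ?_
  rw [hev, hk, hk', pow_one, eval_X]

end Split

theorem ker_norm_eq_bot [Module.Free A B] [Module.Finite A B] [Algebra.Etale A B]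
    (hN : ∀ (S : Type u) [CommRing S] [Algebra A S] (x : S ⊗[A] B),
      F.law.toFun' S x = Algebra.norm S x ⊗ₜ[A] (1 : A)) :
    PolLaw.ker F.law = ⊥ := by
  classical
  cases subsingleton_or_nontrivial A
  · haveI : Subsingleton B := (algebraMap A B).codomain_trivial
    exact Subsingleton.elim _ _
  refine le_antisymm (fun b hb => ?_) bot_le
  let ι := Module.Free.ChooseBasisIndex A B
  let bB := Module.Free.chooseBasis A B
  cases isEmpty_or_nonempty ι
  · haveI : Subsingleton B := bB.repr.toEquiv.subsingleton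
    exact Ideal.mem_bot.2 (Subsingleton.elim _ _)
  rw [Ideal.mem_bot]
  apply ((Groth.Agent.S2733.result A B).1 inferInstance).1
  refine LinearMap.ext fun y => ?_
  rw [map_zero, LinearMap.zero_apply, Algebra.traceForm_apply]
  -- the characteristic polynomial of multiplication by `b * y`
  let bS := Algebra.TensorProduct.basis A[X] bB
  let M := Algebra.leftMulMatrix bB (b * y)
  have hleft : Algebra.leftMulMatrix bS ((1 : A[X]) ⊗ₜ[A] (b * y)) = M.map Polynomial.C := by
    refine Matrix.ext fun i j => ?_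
    rw [Algebra.leftMulMatrix_eq_repr_mul, Algebra.TensorProduct.basis_apply, Algebra.TensorProduct.tmul_mul_tmul,
      one_mul, Algebra.TensorProduct.basis_repr_tmul, Matrix.map_apply]
    show _ = Polynomial.C (Algebra.leftMulMatrix bB (b * y) i j)
    rw [Algebra.leftMulMatrix_eq_repr_mul]
    simp
  have h := hb A[X] ((X : A[X]) ⊗ₜ[A] (1 : B)) ((1 : A[X]) ⊗ₜ[A] (-y))
  rw [hN, hN] at h
  have h' := congrArg (TensorProduct.rid A A[X]) h
  rw [TensorProduct.rid_tmul, TensorProduct.rid_tmul, one_smul, one_smul,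
    Algebra.TensorProduct.tmul_mul_tmul, one_mul, neg_mul, TensorProduct.tmul_neg, ← sub_eq_add_neg, mul_comm y b,
    Algebra.norm_eq_matrix_det bS, Algebra.norm_eq_matrix_det bS, map_sub, hleft] at h'
  have hsc : Algebra.leftMulMatrix bS ((X : A[X]) ⊗ₜ[A] (1 : B)) = Matrix.scalar ι (X : A[X]) :=
    ((Algebra.leftMulMatrix bS).commutes (X : A[X])).trans rfl
  rw [hsc] at h'
  have hchar : M.charpoly = X ^ Fintype.card ι := by
    rw [Matrix.charpoly, Matrix.charmatrix]
    refine h'.trans ?_
    simp [Matrix.det_diagonal]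
    rfl
  show Algebra.trace A B (b * y) = 0
  rw [Algebra.trace_eq_matrix_trace bB, Matrix.trace_eq_neg_charpoly_coeff]
  show -M.charpoly.coeff _ = 0
  rw [hchar, coeff_X_pow, if_neg (Nat.sub_one_lt Fintype.card_ne_zero).ne, neg_zero]

theorem eq_at_local [Module.Free A B] [Module.Finite A B] (G : MulLaw A B A d) (hd : Module.finrank A B = d)
    (hF : PolLaw.ker F.law ≤ nilradical B) (hG : PolLaw.ker G.law ≤ nilradical B)
    {T : Type u} [CommRing T] [Algebra A T] [Algebra.IsFiniteSplit T (T ⊗[A] B)]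
    {R : Type u} [CommRing R] [IsLocalRing R] [Algebra A R] (i : T →ₐ[A] R)
    {S : Type u} [CommRing S] [Algebra A S] (χ : S →ₐ[A] R) (x : S ⊗[A] B) :
    χ (evl F (Algebra.ofId A S) x) = χ (evl G (Algebra.ofId A S) x) := by
  letI : Algebra T R := i.toRingHom.toAlgebra
  haveI : IsScalarTower A T R := IsScalarTower.of_algHom i
  haveI : Algebra.IsFiniteSplit R (R ⊗[A] B) :=
    Algebra.IsFiniteSplit.of_algEquiv (Algebra.TensorProduct.cancelBaseChange A T R R B)
  obtain ⟨n, ⟨Φ⟩⟩ := Algebra.IsFiniteSplit.nonempty_algEquiv_fun R (R ⊗[A] B)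
  have hn : n = d := by
    haveI : Nontrivial A := (algebraMap A R).domain_nontrivial
    have h := Φ.toLinearEquiv.finrank_eq
    rw [Module.finrank_baseChange, hd, Module.finrank_fin_fun] at h
    exact h.symm
  rw [← evl_nat' F (Algebra.ofId A S) χ (g' := Algebra.ofId A R) (Subsingleton.elim _ _),
    ← evl_nat' G (Algebra.ofId A S) χ (g' := Algebra.ofId A R) (Subsingleton.elim _ _),
    evl_eq_prod F hF hn Φ, evl_eq_prod G hG hn Φ]

theorem eq_of_ker_le_nilradical [Module.Free A B] [Module.Finite A B] [Algebra.Etale A B]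
    (hd : Module.finrank A B = d) (G : MulLaw A B A d)
    (hF : PolLaw.ker F.law ≤ nilradical B) (hG : PolLaw.ker G.law ≤ nilradical B) : F = G := by
  cases subsingleton_or_nontrivial A
  · refine mulLaw_ext fun S _ _ x => ?_
    haveI : Subsingleton S := (algebraMap A S).codomain_trivial
    haveI : Subsingleton (S ⊗[A] A) := (TensorProduct.rid A S).toEquiv.subsingleton
    exact Subsingleton.elim _ _
  obtain ⟨T, _, _, hff, _, _, hsplit⟩ :=
    Algebra.IsFiniteSplit.exists_tensorProduct_of_etale (R := A) (S := B) (n := d) (by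
      rw [Module.rankAtStalk_eq_finrank_of_free, hd])
  refine mulLaw_ext fun S _ _ x => (TensorProduct.rid A S).injective ?_
  have hrid : ∀ (H : MulLaw A B A d) (R : Type u) [CommRing R] [Algebra A R] (z : R ⊗[A] B),
      evl H (Algebra.ofId A R) z = TensorProduct.rid A R (ev H R z) := by
    intro H R _ _ z
    show mu (Algebra.ofId A R) (ev H R z) = _
    generalize ev H R z = v
    induction v using TensorProduct.induction_on with
    | zero => simp
    | tmul r a => simp [Algebra.smul_def, mul_comm]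
    | add a b ha hb => simp [ha, hb]
  rw [← hrid, ← hrid]
  let ψ : S →ₐ[A] S ⊗[A] T := Algebra.TensorProduct.includeLeft
  have hinj : Function.Injective ψ := fun a b h =>
    FaithfulSMul.algebraMap_injective S (S ⊗[A] T) h
  apply hinj
  refine eq_of_forall_localization fun m _ => ?_
  let i : T →ₐ[A] Localization.AtPrime m := (IsScalarTower.toAlgHom A (S ⊗[A] T) (Localization.AtPrime m)).comp
    (Algebra.TensorProduct.includeRight : T →ₐ[A] S ⊗[A] T)
  exact eq_at_local F G hd hF hG i ((IsScalarTower.toAlgHom A (S ⊗[A] T) (Localization.AtPrime m)).comp ψ) x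

end Groth.Agent.PolLib
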