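import Groth.Agent.PolLib.EtaleNorm
import Groth.Agent.PolLib.Chi
import Mathlib.FieldTheory.PurelyInseparable.Basic
import Mathlib.FieldTheory.PurelyInseparable.PerfectClosure
import Mathlib.FieldTheory.PurelyInseparable.Exponent
import Mathlib.FieldTheory.PrimitiveElement
import Mathlib.FieldTheory.IsAlgClosed.AlgebraicClosure
import Mathlib.GroupTheory.CosetCover
import Mathlib.RingTheory.Etale.Field
import Mathlib.RingTheory.Norm.Basic
import Mathlib.FieldTheory.SeparableClosure

/-! Multiplicative laws `K → k` of a finite extension of fields. -/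

set_option linter.style.haveILetI false
set_option autoImplicit false

universe u

open scoped TensorProduct IntermediateField

namespace Groth.Agent.PolLib

open PolLaw Polynomial

variable {k : Type u} [Field k]

local notation "k̄" => AlgebraicClosure k

/-- `P` is a power of the irreducible `M` when all its roots are roots of `M`. -/
theorem eq_pow_of_roots {M : k[X]} (hM : M.Monic) (hMi : Irreducible M) :
    ∀ {P : k[X]}, P.Monic → (∀ s : k̄, aeval s P = 0 → aeval s M = 0) → ∃ j, P = M ^ j := by
  intro P hP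
  induction h : P.natDegree using Nat.strong_induction_on generalizing P with
  | _ D ih =>
    intro hroots
    by_cases hD : P.natDegree = 0
    · exact ⟨0, by rw [pow_zero, hP.natDegree_eq_zero.1 hD]⟩
    obtain ⟨s, hs⟩ := IsAlgClosed.exists_aeval_eq_zero k̄ P (fun h0 => hD (natDegree_eq_of_degree_eq_some h0))
    have hMs : M = minpoly k s := minpoly.eq_of_irreducible_of_monic hMi (hroots s hs) hM
    obtain ⟨P', hP'⟩ : M ∣ P := hMs ▸ minpoly.dvd k s hs
    have hmon : P'.Monic := hM.of_mul_monic_left (hP' ▸ hP)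
    have hlt : P'.natDegree < D := by
      rw [← h, hP', natDegree_mul hM.ne_zero hmon.ne_zero]
      have := hMi.natDegree_pos
      omega
    obtain ⟨j, hj⟩ := ih _ hlt hmon rfl (fun t ht => hroots t (by rw [hP', map_mul, ht, mul_zero]))
    exact ⟨j + 1, by rw [hP', hj, pow_succ']⟩

section Split

variable {L : Type u} [Field L] [Algebra k L] [FiniteDimensional k L] [Algebra.IsSeparable k L]
  {d : ℕ} (G : MulLaw k L k d)

omit [FiniteDimensional k L] [Algebra.IsSeparable k L] in
/-- The monic characteristic polynomial and its values. -/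
theorem aeval_chi (b : L) (s : k̄) :
    aeval s (chi G b) = evl G (Algebra.ofId k k̄) ((1 : k̄) ⊗ₜ[k] b - s ⊗ₜ[k] (1 : L)) := by
  rw [chi_eq, ← evl_eq_rid G (Algebra.ofId k k[X]),
    ← evl_nat' G (Algebra.ofId k k[X]) (aeval s) (g' := Algebra.ofId k k̄) (Subsingleton.elim _ _),
    map_sub, rB_tmul, rB_tmul, map_one, aeval_X]

/-- On geometric points a law of a finite separable field extension is a power of the product of the conjugates. -/
theorem evl_eq_prod_pow {ι : Type} [Fintype ι] (Φ : k̄ ⊗[k] L ≃ₐ[k̄] (ι → k̄)) :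
    Module.finrank k L ∣ d ∧ ∀ x : k̄ ⊗[k] L,
      evl G (Algebra.ofId k k̄) x = ∏ i, Φ x i ^ (d / Module.finrank k L) := by
  classical
  let n := Module.finrank k L
  let ε : ι → k̄ ⊗[k] L := fun i => Φ.symm (Pi.single i 1)
  have hε : ∀ i, ε i * ε i = ε i := fun i => by
    rw [← map_mul, ← Pi.single_mul, mul_one]
  choose e he using fun i => exists_pwR_eq_pow G (hε i)
  have hev : ∀ i (u : k̄), evl G (Algebra.ofId k k̄) (1 - ε i + u • ε i) = u ^ e i := fun i u => by
    have h := evl_pwR G (ε i) u
    have hid : IsScalarTower.toAlgHom k k̄ k̄ = AlgHom.id k k̄ := AlgHom.ext fun _ => rfl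
    rw [hid, rB_id, rB_id, he i] at h
    rw [h, map_pow, aeval_X]
  have hval : ∀ x, evl G (Algebra.ofId k k̄) x = ∏ i, Φ x i ^ e i := fun x => by
    have hprod : ∏ i, (1 - ε i + Φ x i • ε i) = x := by
      apply Φ.injective
      rw [map_prod]
      funext j
      rw [Finset.prod_apply, Finset.prod_eq_single j (fun i _ hi => by simp [ε, Ne.symm hi]) (by simp)]
      simp [ε]
    conv_lhs => rw [← hprod]
    rw [evl_prod]
    exact Finset.prod_congr rfl fun i _ => hev i _
  -- the conjugates
  let χ : ι → L →ₐ[k] k̄ := fun i => ((Pi.evalAlgHom k̄ (fun _ : ι => k̄) i).comp Φ.toAlgHom).restrictScalars k |>.comp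
    Algebra.TensorProduct.includeRight
  have hχ : ∀ i (s : k̄) (b : L), Φ ((1 : k̄) ⊗ₜ[k] b - s ⊗ₜ[k] (1 : L)) i = χ i b - s := fun i s b => by
    rw [map_sub, Pi.sub_apply]
    congr 1
    have : s ⊗ₜ[k] (1 : L) = algebraMap k̄ (k̄ ⊗[k] L) s := rfl
    rw [this, AlgEquiv.commutes]
    rfl
  have hχinj : Function.Injective χ := fun i j hij => by
    by_contra hne
    have hall : ∀ x, Φ x i = Φ x j := by
      intro x
      induction x using TensorProduct.induction_on with
      | zero => simp
      | add a b ha hb => simp [ha, hb]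
      | tmul s b =>
        have hsb : s ⊗ₜ[k] b = s • ((1 : k̄) ⊗ₜ[k] b) := by rw [TensorProduct.smul_tmul', smul_eq_mul, mul_one]
        rw [hsb, map_smul, Pi.smul_apply, Pi.smul_apply]
        exact congrArg (s • ·) (DFunLike.congr_fun hij b)
    have := hall (Φ.symm (Pi.single i 1))
    rw [AlgEquiv.apply_symm_apply, Pi.single_eq_same, Pi.single_eq_of_ne (Ne.symm hne)] at this
    exact one_ne_zero this
  have hsum : ∑ i, e i = d := by
    have h : ∀ t : k̄, (X : k̄[X]).eval t ^ d = (X : k̄[X]).eval t ^ ∑ i, e i := fun t => by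
      have h1 := hval (t • 1)
      rw [evl_smul, evl_one, mul_one, map_smul, map_one] at h1
      simpa [Finset.prod_pow_eq_pow_sum] using h1
    have h2 : (X : k̄[X]) ^ d = X ^ ∑ i, e i := Polynomial.funext fun t => by simpa using h t
    simpa using (congrArg natDegree h2).symm
  -- all exponents agree
  obtain ⟨θ, hθ⟩ := Field.exists_primitive_element k L
  have hθi : Function.Injective fun i => χ i θ := fun i j hij =>
    hχinj (by
        refine AlgHom.ext fun x => ?_
        have hx : x ∈ k⟮θ⟯ := hθ ▸ IntermediateField.mem_top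
        induction hx using IntermediateField.adjoin_induction with
        | mem y hy => rw [Set.mem_singleton_iff.1 hy]; exact hij
        | algebraMap r => rw [AlgHom.commutes, AlgHom.commutes]
        | add a b _ _ ha hb => rw [map_add, map_add, ha, hb]
        | inv a _ ha => rw [map_inv₀, map_inv₀, ha]
        | mul a b _ _ ha hb => rw [map_mul, map_mul, ha, hb])
  have hint : IsIntegral k θ := .of_finite k θ
  have hmonP := chi_monic G θ
  have hroots : ∀ s : k̄, aeval s ((-1) ^ d * chi G θ) = 0 → aeval s (minpoly k θ) = 0 := fun s hs => by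
    rw [map_mul, map_pow, map_neg, map_one, mul_eq_zero, or_iff_right (pow_ne_zero _ (neg_ne_zero.2 one_ne_zero)),
      aeval_chi, hval, Finset.prod_eq_zero_iff] at hs
    obtain ⟨i, _, hi⟩ := hs
    have h0 := eq_zero_of_pow_eq_zero hi
    rw [hχ, sub_eq_zero] at h0
    rw [← h0, aeval_algHom_apply, minpoly.aeval, map_zero]
  obtain ⟨j, hj⟩ := eq_pow_of_roots (minpoly.monic hint) (minpoly.irreducible hint) hmonP hroots
  have hPmap : ((-1) ^ d * chi G θ).map (algebraMap k k̄) = ∏ i, (X - C (χ i θ)) ^ e i :=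
    Polynomial.funext fun s => by
      rw [eval_map_algebraMap, map_mul, map_pow, map_neg, map_one, aeval_chi, hval, eval_prod,
        ← hsum, ← Finset.prod_pow_eq_pow_sum, ← Finset.prod_mul_distrib]
      refine Finset.prod_congr rfl fun i _ => ?_
      rw [hχ, eval_pow, eval_sub, eval_X, eval_C, ← mul_pow]
      ring
  have hdeg : d = n * j := by
    have h1 := congrArg natDegree hPmap
    rw [natDegree_map, hj, natDegree_pow, natDegree_prod _ _ fun i _ => pow_ne_zero _ (X_sub_C_ne_zero _)] at h1
    simp only [natDegree_pow, natDegree_X_sub_C, mul_one] at h1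
    rw [hsum, ← IntermediateField.adjoin.finrank hint, hθ, IntermediateField.finrank_top'] at h1
    rw [← h1, mul_comm]
  have hej : ∀ i, e i = j := fun l => by
    have hne : ∏ i, (X - C (χ i θ)) ^ e i ≠ 0 := Finset.prod_ne_zero_iff.2 fun i _ => pow_ne_zero _ (X_sub_C_ne_zero _)
    have h1 : (((-1) ^ d * chi G θ).map (algebraMap k k̄)).roots.count (χ l θ) = e l := by
      rw [hPmap, roots_prod _ _ hne, Multiset.count_bind]
      simp only [roots_pow, roots_X_sub_C, Multiset.count_nsmul, Multiset.count_singleton]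
      show (Finset.univ.1.map fun i => _).sum = _
      rw [Finset.sum_map_val, Finset.sum_eq_single l (fun i _ hi => by
        rw [if_neg fun h => hi (hθi h).symm, mul_zero]) (by simp), if_pos rfl, mul_one]
    have hmem : χ l θ ∈ ((minpoly k θ).map (algebraMap k k̄)).roots := by
      rw [mem_roots_map (minpoly.ne_zero hint), ← aeval_def, aeval_algHom_apply, minpoly.aeval, map_zero]
    rw [← h1, hj, Polynomial.map_pow, roots_pow, Multiset.count_nsmul,
      Multiset.count_eq_one_of_mem (nodup_roots (Polynomial.Separable.map (Algebra.IsSeparable.isSeparable k θ))) hmem, mul_one]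
  have hn : 0 < n := Module.finrank_pos
  refine ⟨⟨j, hdeg⟩, fun x => ?_⟩
  rw [hval, show d / Module.finrank k L = j by rw [hdeg]; exact Nat.mul_div_cancel_left j hn]
  simp only [hej]

theorem exists_split : ∃ (m : ℕ), Nonempty (k̄ ⊗[k] L ≃ₐ[k̄] (Fin m → k̄)) := by
  haveI : Algebra.FormallyEtale k L := Algebra.FormallyEtale.of_isSeparable k L
  exact Algebra.IsFiniteSplit.nonempty_algEquiv_fun k̄ (k̄ ⊗[k] L)

theorem evl_eq_evl_of_separable (G' : MulLaw k L k d) (x : k̄ ⊗[k] L) :
    evl G (Algebra.ofId k k̄) x = evl G' (Algebra.ofId k k̄) x := by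
  obtain ⟨m, ⟨Φ⟩⟩ := exists_split (k := k) (L := L)
  rw [(evl_eq_prod_pow G Φ).2, (evl_eq_prod_pow G' Φ).2]

/-- A zero of the law at a geometric point of the form `b - t` comes from a conjugate. -/
theorem aeval_minpoly_of_evl_eq_zero {b : L} {t : k̄}
    (h : evl G (Algebra.ofId k k̄) ((1 : k̄) ⊗ₜ[k] b - t ⊗ₜ[k] (1 : L)) = 0) :
    aeval t (minpoly k b) = 0 := by
  obtain ⟨m, ⟨Φ⟩⟩ := exists_split (k := k) (L := L)
  rw [(evl_eq_prod_pow G Φ).2, Finset.prod_eq_zero_iff] at h
  obtain ⟨i, _, hi⟩ := h
  let χ : L →ₐ[k] k̄ := ((Pi.evalAlgHom k̄ (fun _ : Fin m => k̄) i).comp Φ.toAlgHom).restrictScalars k |>.comp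
    Algebra.TensorProduct.includeRight
  have h0 := eq_zero_of_pow_eq_zero hi
  have h1 : Φ (t ⊗ₜ[k] (1 : L)) i = t := by
    rw [show t ⊗ₜ[k] (1 : L) = algebraMap k̄ (k̄ ⊗[k] L) t from rfl, AlgEquiv.commutes]
    rfl
  rw [map_sub, Pi.sub_apply, h1, sub_eq_zero] at h0
  have h2 : χ b = t := h0
  rw [← h2, aeval_algHom_apply, minpoly.aeval, map_zero]

end Split

section Field

variable {K : Type u} [Field K] [Algebra k K] [FiniteDimensional k K] (L : IntermediateField k K)
  (p a : ℕ) [ExpChar k p] (hq : ∀ x : K, x ^ p ^ a ∈ L)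

omit [FiniteDimensional k K] in
include hq in
theorem pow_mem_range (S : Type u) [CommRing S] [Algebra k S] (z : S ⊗[k] K) :
    z ^ p ^ a ∈ (bc L.val S).range := by
  rcases ‹ExpChar k p› with _ | ⟨hp⟩
  · have htop : ∀ x : K, x ∈ L := fun x => by simpa using hq x
    rw [one_pow, pow_one]
    exact bc_surjective (f := L.val) (fun x => ⟨⟨x, htop x⟩, rfl⟩) z
  have hp0 : (p : S ⊗[k] K) = 0 := by
    rw [← map_natCast (algebraMap k (S ⊗[k] K)), CharP.cast_eq_zero, map_zero]
  induction z using TensorProduct.induction_on with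
  | zero => rw [zero_pow (pow_ne_zero _ hp.ne_zero)]; exact zero_mem _
  | tmul s x =>
    refine ⟨(s ^ p ^ a) ⊗ₜ[k] ⟨x ^ p ^ a, hq x⟩, ?_⟩
    show bc L.val S _ = _
    rw [bc_tmul, Algebra.TensorProduct.tmul_pow]
    rfl
  | add x y hx hy =>
    obtain ⟨r, hr⟩ := exists_add_pow_prime_pow_eq hp x y a
    rw [hr, hp0, zero_mul, zero_mul, zero_mul, add_zero]
    exact add_mem hx hy

omit [FiniteDimensional k K] in
theorem bc_val_injective (S : Type u) [CommSemiring S] [Algebra k S] :
    Function.Injective (bc L.val S) := by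
  obtain ⟨g, hg⟩ := L.val.toLinearMap.exists_leftInverse_of_injective
    (LinearMap.ker_eq_bot.2 fun x y h => L.val.injective h)
  exact bc_injective_of_leftInverse _ g fun b => LinearMap.congr_fun hg b

variable [Algebra.IsSeparable k L]

include hq in
/-- Two laws `K → k` of the same degree are equal. -/
theorem mulLaw_field_unique {d : ℕ} (F F' : MulLaw k K k d) : F = F' := by
  refine MulLaw.ext (law_ext fun m x => (TensorProduct.rid k (MvPolynomial (Fin m) k)).injective ?_)
  rw [← evl_eq_rid F (Algebra.ofId k (MvPolynomial (Fin m) k)),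
    ← evl_eq_rid F' (Algebra.ofId k (MvPolynomial (Fin m) k))]
  apply MvPolynomial.map_injective (algebraMap k k̄) (algebraMap k k̄).injective
  refine MvPolynomial.funext fun v => ?_
  rw [MvPolynomial.eval_map, MvPolynomial.eval_map]
  show MvPolynomial.aeval v _ = MvPolynomial.aeval v _
  rw [← evl_nat' F _ (MvPolynomial.aeval v) (g' := Algebra.ofId k k̄) (Subsingleton.elim _ _),
    ← evl_nat' F' _ (MvPolynomial.aeval v) (g' := Algebra.ofId k k̄) (Subsingleton.elim _ _)]
  generalize rB K (MvPolynomial.aeval v) x = z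
  have : ExpChar k̄ p := expChar_of_injective_algebraMap (algebraMap k k̄).injective p
  apply iterateFrobenius_inj k̄ p a
  simp only [iterateFrobenius_def]
  obtain ⟨w, hw⟩ := pow_mem_range L p a hq k̄ z
  have hp : ∀ H : MulLaw k K k d, evl H (Algebra.ofId k k̄) z ^ p ^ a =
      evl (MulLaw.precomp H L.val) (Algebra.ofId k k̄) w := fun H => by
    show _ = mu _ (ev (MulLaw.precomp H L.val) k̄ w)
    rw [ev_precomp, show bc L.val k̄ w = z ^ p ^ a from hw, ev_pow, map_pow]
    rfl
  rw [hp, hp]
  exact evl_eq_evl_of_separable _ _ w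

include hq in
/-- The degree of a law `K → k` is divisible by the quasi-degree. -/
theorem dvd_of_mulLaw {d : ℕ} (F : MulLaw k K k d)
    (hmin : ∀ b < a, ∃ x : K, x ^ p ^ b ∉ L) : Module.finrank k L * p ^ a ∣ d := by
  classical
  obtain ⟨m, ⟨Φ⟩⟩ := exists_split (k := k) (L := L)
  rcases Nat.eq_zero_or_pos a with rfl | ha
  · rw [pow_zero, mul_one]
    exact (evl_eq_prod_pow (MulLaw.precomp F L.val) Φ).1
  have : ExpChar K p := expChar_of_injective_algebraMap (algebraMap k K).injective p
  obtain ⟨x₀, hx₀⟩ := hmin (a - 1) (by omega)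
  have hp : p.Prime := by
    rcases expChar_is_prime_or_one k p with h | h
    · exact h
    · exact absurd (by simpa [h] using hq x₀) (by simpa [h] using hx₀)
  haveI : CharP k p := by
    rcases ‹ExpChar k p› with _ | ⟨_⟩
    · exact absurd hp Nat.not_prime_one
    · infer_instance
  haveI : Infinite k := by
    by_contra h
    rw [not_infinite_iff_finite] at h
    haveI : Algebra.IsSeparable k K := inferInstance
    have hK : ∀ x : K, x ∈ L := fun x => by
      have h1 := IntermediateField.adjoin_eq_adjoin_pow_expChar_pow_of_isSeparable' k K ({x} : Set K) p a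
      have h2 : x ∈ k⟮x⟯ := IntermediateField.mem_adjoin_simple_self k x
      rw [h1, Set.image_singleton] at h2
      exact IntermediateField.adjoin_simple_le_iff.2 (hq x) h2
    exact hx₀ (hK _)
  -- the elements to avoid
  let V : Option {M : IntermediateField k L // M ≠ ⊤} → Submodule k K := fun o =>
    match o with
    | none =>
      { carrier := {x | x ^ p ^ (a - 1) ∈ L}
        add_mem' := fun {x y} hx hy => by
          show (x + y) ^ p ^ (a - 1) ∈ L
          rw [add_pow_expChar_pow]; exact add_mem hx hy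
        zero_mem' := by
          show (0 : K) ^ p ^ (a - 1) ∈ L
          rw [zero_pow (pow_ne_zero _ hp.ne_zero)]; exact zero_mem L
        smul_mem' := fun c x hx => by
          show (c • x) ^ p ^ (a - 1) ∈ L
          rw [_root_.smul_pow]; exact L.smul_mem hx }
    | some M =>
      { carrier := {x | x ^ p ^ a ∈ IntermediateField.lift M.1}
        add_mem' := fun {x y} hx hy => by
          show (x + y) ^ p ^ a ∈ IntermediateField.lift M.1
          rw [add_pow_expChar_pow]; exact add_mem hx hy
        zero_mem' := by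
          show (0 : K) ^ p ^ a ∈ IntermediateField.lift M.1
          rw [zero_pow (pow_ne_zero _ hp.ne_zero)]; exact zero_mem _
        smul_mem' := fun c x hx => by
          show (c • x) ^ p ^ a ∈ IntermediateField.lift M.1
          rw [_root_.smul_pow]; exact IntermediateField.smul_mem _ hx }
  haveI : Finite (IntermediateField k L) :=
    Field.exists_primitive_element_iff_finite_intermediateField k L |>.1
      ⟨inferInstance, Field.exists_primitive_element k L⟩
  have hV : ∀ o, V o ≠ ⊤ := fun o ho => by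
    match o with
    | none => exact hx₀ (show x₀ ∈ V none by rw [ho]; trivial)
    | some M =>
      refine M.2 (eq_top_iff.2 fun x _ => ?_)
      have h1 : (x : K) ^ p ^ a ∈ IntermediateField.lift M.1 := show (x : K) ∈ V (some M) by rw [ho]; trivial
      have h2 : x ^ p ^ a ∈ M.1 := (IntermediateField.mem_lift (x ^ p ^ a)).1 (by simpa using h1)
      have h3 := IntermediateField.adjoin_eq_adjoin_pow_expChar_pow_of_isSeparable' k L ({x} : Set L) p a
      have h4 : x ∈ k⟮x⟯ := IntermediateField.mem_adjoin_simple_self k x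
      rw [h3, Set.image_singleton] at h4
      exact IntermediateField.adjoin_simple_le_iff.2 h2 h4
  obtain ⟨γ, hγ⟩ : ∃ γ, ∀ o, γ ∉ V o := by
    by_contra hc
    push_neg at hc
    obtain ⟨o, ho⟩ := Subspace.exists_eq_top_of_iUnion_eq_univ
      (Set.eq_univ_of_forall fun x => Set.mem_iUnion.2 (hc x))
    exact hV o ho
  let c : L := ⟨γ ^ p ^ a, hq γ⟩
  have hc : k⟮c⟯ = ⊤ := by
    by_contra hne
    exact hγ (some ⟨_, hne⟩) ((IntermediateField.mem_lift c).2 (IntermediateField.mem_adjoin_simple_self k c))
  -- degree of `γ`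
  have hintc : IsIntegral k c := .of_finite k c
  have hdegc : (minpoly k c).natDegree = Module.finrank k L := by
    rw [← IntermediateField.adjoin.finrank hintc, hc, IntermediateField.finrank_top']
  have hintγ : IsIntegral k γ := .of_finite k γ
  haveI : IsPurelyInseparable L K := by
    haveI : ExpChar L p := expChar_of_injective_algebraMap (algebraMap k L).injective p
    exact (isPurelyInseparable_iff_pow_mem L p).2 fun x => ⟨a, ⟨⟨_, hq x⟩, rfl⟩⟩
  have hdegγL : (minpoly L γ).natDegree = p ^ a := by
    haveI : ExpChar L p := expChar_of_injective_algebraMap (algebraMap k L).injective p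
    obtain ⟨b, y, hb⟩ := IsPurelyInseparable.minpoly_eq_X_pow_sub_C L p γ
    have h0 := minpoly.aeval L γ
    rw [hb, map_sub, map_pow, aeval_X, aeval_C, sub_eq_zero] at h0
    have hba : a ≤ b := by
      by_contra hlt
      apply hγ none
      show γ ^ p ^ (a - 1) ∈ L
      rw [show a - 1 = b + (a - 1 - b) by omega, pow_add, pow_mul, h0]
      exact pow_mem y.2 _
    have hle : (minpoly L γ).natDegree ≤ p ^ a := by
      refine le_trans (natDegree_le_of_dvd (minpoly.dvd L γ (p := X ^ p ^ a - C ⟨_, hq γ⟩) ?_)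
        (monic_X_pow_sub_C _ (pow_ne_zero _ hp.ne_zero)).ne_zero) (le_of_eq natDegree_X_pow_sub_C)
      rw [map_sub, map_pow, aeval_X, aeval_C, sub_eq_zero]
      rfl
    rw [hb, natDegree_X_pow_sub_C] at hle ⊢
    exact le_antisymm hle (Nat.pow_le_pow_right hp.pos hba)
  let Q : k[X] := expand k (p ^ a) (minpoly k c)
  have hQm : Q.Monic := (minpoly.monic hintc).expand (pow_pos hp.pos a)
  have hQdeg : Q.natDegree = Module.finrank k L * p ^ a := by rw [natDegree_expand, hdegc]
  have hQγ : aeval γ Q = 0 := by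
    rw [expand_aeval, show γ ^ p ^ a = L.val c from rfl, aeval_algHom_apply, minpoly.aeval, map_zero]
  have hdegγ : (minpoly k γ).natDegree = Module.finrank k L * p ^ a := by
    refine le_antisymm (hQdeg ▸ natDegree_le_of_dvd (minpoly.dvd k γ hQγ) hQm.ne_zero) ?_
    have hle : L ≤ k⟮γ⟯ := fun x hx => by
      have hmem : (⟨x, hx⟩ : L) ∈ k⟮c⟯ := hc ▸ IntermediateField.mem_top
      have h1 : x ∈ IntermediateField.lift k⟮c⟯ := (IntermediateField.mem_lift (⟨x, hx⟩ : L)).2 hmem
      rw [IntermediateField.lift_adjoin_simple] at h1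
      exact IntermediateField.adjoin_simple_le_iff.2 (pow_mem (IntermediateField.mem_adjoin_simple_self k γ) _) h1
    rw [← IntermediateField.adjoin.finrank hintγ]
    have hres : L⟮γ⟯.restrictScalars k ≤ k⟮γ⟯ := by
      intro x hx
      rw [IntermediateField.mem_restrictScalars] at hx
      induction hx using IntermediateField.adjoin_induction with
      | mem y hy => rw [Set.mem_singleton_iff.1 hy]; exact IntermediateField.mem_adjoin_simple_self k γ
      | algebraMap r => exact hle r.2
      | add a b _ _ ha hb => exact add_mem ha hb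
      | inv a _ ha => exact inv_mem ha
      | mul a b _ _ ha hb => exact mul_mem ha hb
    refine le_trans (le_of_eq ?_) (IntermediateField.finrank_le_of_le_right hres)
    rw [← hdegγL, ← IntermediateField.adjoin.finrank (IsIntegral.of_finite L γ)]
    exact Module.finrank_mul_finrank k L L⟮γ⟯
  have hMQ : minpoly k γ = Q := (eq_of_monic_of_dvd_of_natDegree_le (minpoly.monic hintγ) hQm
    (minpoly.dvd k γ hQγ) (by omega)).symm
  -- the characteristic polynomial of `γ`
  have hroots : ∀ s : k̄, aeval s ((-1) ^ d * chi F γ) = 0 → aeval s Q = 0 := fun s hs => by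
    rw [map_mul, map_pow, map_neg, map_one, mul_eq_zero, or_iff_right (pow_ne_zero _ (neg_ne_zero.2 one_ne_zero)),
      chi_eq, ← evl_eq_rid F (Algebra.ofId k k[X]),
      ← evl_nat' F (Algebra.ofId k k[X]) (aeval s) (g' := Algebra.ofId k k̄) (Subsingleton.elim _ _),
      map_sub, rB_tmul, rB_tmul, map_one, aeval_X] at hs
    rw [expand_aeval]
    refine aeval_minpoly_of_evl_eq_zero (MulLaw.precomp F L.val) ?_
    show mu _ (ev (MulLaw.precomp F L.val) k̄ _) = 0
    haveI : ExpChar k̄ p := expChar_of_injective_algebraMap (algebraMap k k̄).injective p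
    haveI : ExpChar (k̄ ⊗[k] K) p := expChar_of_injective_algebraMap (algebraMap k̄ (k̄ ⊗[k] K)).injective p
    rw [ev_precomp]
    have hb : bc L.val k̄ ((1 : k̄) ⊗ₜ[k] c - (s ^ p ^ a) ⊗ₜ[k] (1 : L)) =
        ((1 : k̄) ⊗ₜ[k] γ - s ⊗ₜ[k] (1 : K)) ^ p ^ a := by
      rw [sub_pow_expChar_pow, Algebra.TensorProduct.tmul_pow, Algebra.TensorProduct.tmul_pow, one_pow, one_pow,
        map_sub, bc_tmul, bc_tmul]
      rfl
    rw [hb, ev_pow, map_pow]
    show evl F (Algebra.ofId k k̄) _ ^ p ^ a = 0
    rw [hs, zero_pow (pow_ne_zero _ hp.ne_zero)]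
  obtain ⟨j, hj⟩ := eq_pow_of_roots hQm (hMQ ▸ minpoly.irreducible hintγ) (chi_monic F γ) hroots
  refine ⟨j, ?_⟩
  have hd : ((-1) ^ d * chi F γ).natDegree = d :=
    (evl_cayleyHamilton_and_monic F (AlgHom.id k k) ((1 : k) ⊗ₜ[k] γ)).2.2 inferInstance
  rw [← hd, hj, natDegree_pow, hQdeg, mul_comm]

omit [Algebra.IsSeparable k L] in
include hq in
/-- The norm of the `p ^ a`-th power. -/
theorem exists_mulLaw (m : ℕ) : Nonempty (MulLaw k K k (Module.finrank k L * p ^ a * m)) := by
  classical
  let b := Module.Free.chooseBasis k L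
  let w : ∀ (S : Type u) [CommRing S] [Algebra k S], S ⊗[k] K → S ⊗[k] L :=
    fun S _ _ z => (pow_mem_range L p a hq S z).choose
  have hw : ∀ (S : Type u) [CommRing S] [Algebra k S] (z : S ⊗[k] K), bc L.val S (w S z) = z ^ p ^ a :=
    fun S _ _ z => (pow_mem_range L p a hq S z).choose_spec
  have hone : ∀ (S : Type u) [CommRing S] [Algebra k S], Algebra.norm S (w S 1) = 1 := fun S _ _ => by
    have h : w S 1 = 1 := bc_val_injective L S (by rw [hw, one_pow, map_one])
    rw [h, map_one]
  have hmul : ∀ (S : Type u) [CommRing S] [Algebra k S] (x y : S ⊗[k] K),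
      Algebra.norm S (w S (x * y)) = Algebra.norm S (w S x) * Algebra.norm S (w S y) := fun S _ _ x y => by
    rw [← map_mul]
    exact congrArg _ (bc_val_injective L S (by rw [hw, map_mul, hw, hw, mul_pow]))
  have hsmul : ∀ (S : Type u) [CommRing S] [Algebra k S] (t : S) (x : S ⊗[k] K),
      Algebra.norm S (w S (t • x)) = t ^ (Module.finrank k L * p ^ a) * Algebra.norm S (w S x) := fun S _ _ t x => by
    have h : w S (t • x) = algebraMap S (S ⊗[k] L) (t ^ p ^ a) * w S x := bc_val_injective L S (by
      rw [hw, map_mul, hw, AlgHom.commutes, _root_.smul_pow, Algebra.smul_def])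
    rw [h, map_mul, Algebra.norm_algebraMap_of_basis (Algebra.TensorProduct.basis S b), ← pow_mul,
      ← Module.finrank_eq_card_basis b, mul_comm (p ^ a)]
  have hnat : ∀ (S S' : Type u) [CommRing S] [Algebra k S] [CommRing S'] [Algebra k S'] (φ : S →ₐ[k] S')
      (z : S ⊗[k] K), φ (Algebra.norm S (w S z)) = Algebra.norm S' (w S' (rB K φ z)) := by
    intro S S' _ _ _ _ φ z
    have h : w S' (rB K φ z) = rB L φ (w S z) := bc_val_injective L S' (by
      rw [hw, ← map_pow, ← hw, bc_rB])
    rw [h]
    generalize w S z = y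
    rw [Algebra.norm_eq_matrix_det (Algebra.TensorProduct.basis S b),
      Algebra.norm_eq_matrix_det (Algebra.TensorProduct.basis S' b)]
    have hM : ∀ y, Algebra.leftMulMatrix (Algebra.TensorProduct.basis S' b) (rB L φ y) =
        (Algebra.leftMulMatrix (Algebra.TensorProduct.basis S b) y).map φ := by
      intro y
      induction y using TensorProduct.induction_on with
      | zero => simp
      | add u v hu hv => rw [map_add, map_add, map_add, hu, hv, Matrix.map_add _ (map_add φ)]
      | tmul s x =>
        refine Matrix.ext fun i j => ?_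
        rw [Matrix.map_apply, rB_tmul, Algebra.leftMulMatrix_eq_repr_mul, Algebra.leftMulMatrix_eq_repr_mul,
          Algebra.TensorProduct.basis_apply, Algebra.TensorProduct.basis_apply, Algebra.TensorProduct.tmul_mul_tmul,
          Algebra.TensorProduct.tmul_mul_tmul, mul_one, mul_one, Algebra.TensorProduct.basis_repr_tmul,
          Algebra.TensorProduct.basis_repr_tmul]
        simp
    rw [hM]
    exact φ.toRingHom.map_det _
  refine ⟨
  { law :=
    { toFun' := fun S _ _ z =>
        letI : CommRing S := RingHom.commSemiringToCommRing (algebraMap k S)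
        (Algebra.norm S (w S z) ^ m) ⊗ₜ[k] (1 : k)
      isCompat' := fun {S} _ _ {S'} _ _ φ => by
        letI : CommRing S := RingHom.commSemiringToCommRing (algebraMap k S)
        letI : CommRing S' := RingHom.commSemiringToCommRing (algebraMap k S')
        funext z
        simp only [Function.comp_apply, LinearMap.rTensor_tmul, AlgHom.toLinearMap_apply]
        rw [rTensor_eq_rB, map_pow, hnat S S' φ z] }
    homog := fun S _ _ t x => by
      letI : CommRing S := RingHom.commSemiringToCommRing (algebraMap k S)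
      show (Algebra.norm S (w S (t • x)) ^ m) ⊗ₜ[k] (1 : k) = t ^ _ • (Algebra.norm S (w S x) ^ m) ⊗ₜ[k] (1 : k)
      rw [hsmul S t x, TensorProduct.smul_tmul', smul_eq_mul, mul_pow, ← pow_mul]
    mult := fun S _ _ => by
      letI : CommRing S := RingHom.commSemiringToCommRing (algebraMap k S)
      refine ⟨?_, fun x y => ?_⟩
      · show (Algebra.norm S (w S 1) ^ m) ⊗ₜ[k] (1 : k) = 1
        rw [hone S, one_pow]
        rfl
      · show (Algebra.norm S (w S (x * y)) ^ m) ⊗ₜ[k] (1 : k) = _ * _
        rw [hmul S x y, mul_pow]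
        show _ = (Algebra.norm S (w S x) ^ m) ⊗ₜ[k] (1 : k) * (Algebra.norm S (w S y) ^ m) ⊗ₜ[k] (1 : k)
        rw [Algebra.TensorProduct.tmul_mul_tmul, mul_one] }⟩

end Field

/-- Laws tested only on rings. -/
noncomputable def MulLawOfRings {K : Type u} [CommRing K] [Algebra k K] {d : ℕ} (F : K →ₚₗ[k] k)
    (hm : ∀ (S : Type u) [CommRing S] [Algebra k S], F.toFun' S 1 = 1 ∧
      ∀ x y : S ⊗[k] K, F.toFun' S (x * y) = F.toFun' S x * F.toFun' S y)
    (hh : ∀ (S : Type u) [CommRing S] [Algebra k S] (a : S) (z : S ⊗[k] K),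
      F.toFun' S (a • z) = a ^ d • F.toFun' S z) : MulLaw k K k d where
  law := F
  homog S _ _ a z := by
    letI : CommRing S := RingHom.commSemiringToCommRing (algebraMap k S)
    exact hh S a z
  mult S _ _ := by
    letI : CommRing S := RingHom.commSemiringToCommRing (algebraMap k S)
    exact hm S

theorem field_laws (k : Type u) [Field k] (K : Type u) [Field K] [Algebra k K] [FiniteDimensional k K] (d e : ℕ)
    (he : 0 < e) (hexp : ∀ x : K, x ^ e ∈ separableClosure k K)
    (hmin : ∀ n : ℕ, 0 < n → (∀ x : K, x ^ n ∈ separableClosure k K) → e ≤ n) :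
    (∀ F F' : MulLaw k K k d, F = F') ∧
      (Nonempty (MulLaw k K k d) ↔ Field.finSepDegree k K * e ∣ d) := by
  obtain ⟨p, hp⟩ := ExpChar.exists k
  let L := separableClosure k K
  haveI : Algebra.IsSeparable k L := separableClosure.isSeparable k K
  haveI : ExpChar L p := expChar_of_injective_algebraMap (algebraMap k L).injective p
  obtain ⟨a, rfl, hpa⟩ : ∃ a, e = p ^ a ∧ ∀ b < a, p ^ b < p ^ a := by
    let b := IsPurelyInseparable.exponent L K
    have hb : ∀ x : K, x ^ p ^ b ∈ L := fun x => by
      obtain ⟨y, hy⟩ := IsPurelyInseparable.exponent_def' L p (L := K) x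
      exact hy ▸ y.2
    have hg : ∀ x : K, x ^ Nat.gcd e (p ^ b) ∈ L := fun x => by
      rcases eq_or_ne x 0 with rfl | hx
      · rw [zero_pow (Nat.gcd_pos_of_pos_left _ he).ne']
        exact zero_mem _
      rw [← zpow_natCast, Nat.gcd_eq_gcd_ab, zpow_add₀ hx, zpow_mul, zpow_mul, zpow_natCast, zpow_natCast]
      exact mul_mem (zpow_mem (hexp x) _) (zpow_mem (hb x) _)
    have heq : e = Nat.gcd e (p ^ b) :=
      le_antisymm (hmin _ (Nat.gcd_pos_of_pos_left _ he) hg) (Nat.gcd_le_left _ he)
    have hdvd : e ∣ p ^ b := heq ▸ Nat.gcd_dvd_right _ _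
    rcases expChar_is_prime_or_one k p with h | h
    · obtain ⟨a, _, rfl⟩ := (Nat.dvd_prime_pow h).1 hdvd
      exact ⟨a, rfl, fun b hb => Nat.pow_lt_pow_right h.one_lt hb⟩
    · exact ⟨0, by rw [h, one_pow] at hdvd; rw [pow_zero, Nat.eq_one_of_dvd_one hdvd], fun b hb => absurd hb (Nat.not_lt_zero b)⟩
  have hn : Field.finSepDegree k K = Module.finrank k L := Field.finSepDegree_eq k K
  rw [hn]
  refine ⟨mulLaw_field_unique L p a hexp, ⟨fun ⟨F⟩ => dvd_of_mulLaw L p a hexp F fun b hb => ?_, ?_⟩⟩
  · by_contra hc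
    push Not at hc
    exact absurd (hmin (p ^ b) (pow_pos (expChar_pos k p) b) hc) (not_le.2 (hpa b hb))
  · rintro ⟨m, rfl⟩
    exact exists_mulLaw L p a hexp m

end Groth.Agent.PolLib
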