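import Groth.Agent.PolLib.FlatTS
import Groth.Agent.FBaseLib.Reduced

/-! Divided powers of a flat algebra with geometrically reduced fibres have reduced fibres. -/

universe u

open scoped TensorProduct

namespace Groth.Agent.PolLib

open PolLaw

variable {A : Type u} [CommRing A]

/-- Symmetric tensors of a flat module are a pure submodule of the tensor power. -/
theorem lTensor_invSub_injective {M : Type u} [AddCommGroup M] [Module A M] [Module.Flat A M] {d : ℕ}
    (N : Type u) [AddCommGroup N] [Module A N] :
    Function.Injective ((invSub A M d).subtype.lTensor N) := by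
  classical
  refine (injective_iff_map_eq_zero _).2 fun w hw => ?_
  obtain ⟨S, hS⟩ := TensorProduct.exists_finset w
  let e := S.equivFin
  let n : Fin S.card → N := fun a => (e.symm a).1.1
  let z : Fin S.card → ⨂[A]^d M := fun a => (e.symm a).1.2.1
  obtain ⟨l, G, t, ht, hgt⟩ := exists_invariant_lift_family z fun a => mem_invSub.mp (e.symm a).1.2.2
  have hw' : w = ∑ a, n a ⊗ₜ[A] (⟨z a, (e.symm a).1.2.2⟩ : invSub A M d) := by
    rw [hS, ← Finset.sum_coe_sort, ← e.symm.sum_comp]
  have h0 : (tp d G).lTensor N (∑ a, n a ⊗ₜ[A] t a) = 0 := by
    rw [← hw, hw', map_sum, map_sum]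
    exact Finset.sum_congr rfl fun a _ => by simp [hgt]
  obtain ⟨m, h, g, hg, hh⟩ := kill d N l G _ h0
  have : Finite (Orb (Fin m) d) := Finite.of_surjective cls cls_surjective
  let _ := Fintype.ofFinite (Orb (Fin m) d)
  have horb : ∀ q, tp d g ((SymTen.TS A (Fin m → A) d).val
      (orb (Pi.basisFun A (Fin m)) q)) ∈ invSub A M d := fun q => mem_invSub.mpr fun σ => by
    rw [← tp_reindex]
    exact congrArg _ ((orb (Pi.basisFun A (Fin m)) q).2 σ)
  let P : (⨂[A]^d (Fin m → A)) →ₗ[A] invSub A M d :=
    ∑ q : Orb (Fin m) d, ((beta (Pi.basisFun A (Fin m)) d).coord (rep q)).smulRight ⟨_, horb q⟩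
  have hP : ∀ a, P (tp d h (t a)) = ⟨z a, (e.symm a).1.2.2⟩ := fun a => by
    refine Subtype.ext ?_
    simp only [P, LinearMap.sum_apply, LinearMap.smulRight_apply, AddSubmonoidClass.coe_finset_sum,
      SetLike.val_smul]
    show _ = z a
    rw [← hgt a, ← hg, tp_comp, LinearMap.comp_apply,
      eq_sum_orb (tp d h (t a)) (fun σ => by rw [← tp_reindex, ht]), map_sum]
    simp only [map_smul]
    refine Finset.sum_congr rfl fun q _ => ?_
    rw [← eq_sum_orb (tp d h (t a)) (fun σ => by rw [← tp_reindex, ht])]
  rw [hw', show (0 : N ⊗[A] invSub A M d) = P.lTensor N 0 from (map_zero _).symm, ← hh, map_sum, map_sum]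
  exact Finset.sum_congr rfl fun a _ => by simp [hP]

variable {B : Type u} [CommRing B] [Algebra A B]

variable (A B) in
/-- The empty tensor power. -/
noncomputable def powZero : (⨂[A] _ : Fin 0, B) ≃ₐ[A] A :=
  AlgEquiv.ofLinearEquiv (PiTensorProduct.isEmptyEquiv (Fin 0) (R := A) (s := fun _ => B))
    (by rw [PiTensorProduct.one_def, PiTensorProduct.isEmptyEquiv_apply_tprod])
    (fun s t => by
      induction s using PiTensorProduct.induction_on with
      | add x y hx hy => simp only [add_mul, map_add, hx, hy]
      | smul_tprod r f =>
        induction t using PiTensorProduct.induction_on with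
        | add x y hx hy => simp only [mul_add, map_add, hx, hy]
        | smul_tprod r' g =>
          simp only [map_smul, smul_mul_smul_comm, PiTensorProduct.tprod_mul_tprod,
            PiTensorProduct.isEmptyEquiv_apply_tprod, smul_eq_mul, mul_one])

variable (A B) in
/-- Splitting off the last factor, as algebras. -/
noncomputable def joinAlg (d : ℕ) : (⨂[A] _ : Fin d, B) ⊗[A] B ≃ₐ[A] ⨂[A] _ : Fin (d + 1), B :=
  AlgEquiv.ofLinearEquiv (join A B d)
    (by
      rw [Algebra.TensorProduct.one_def, PiTensorProduct.one_def, join_tmul, PiTensorProduct.one_def]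
      congr 1
      funext i
      refine Fin.addCases (fun j => ?_) (fun j => ?_) i <;> simp)
    (fun s t => by
      induction s using TensorProduct.induction_on with
      | zero => simp
      | add x y hx hy => simp only [add_mul, map_add, hx, hy]
      | tmul a x =>
        induction t using TensorProduct.induction_on with
        | zero => simp
        | add u v hu hv => simp only [mul_add, map_add, hu, hv]
        | tmul b y =>
          induction a using PiTensorProduct.induction_on with
          | add a a' ha ha' => simp only [TensorProduct.add_tmul, add_mul, map_add, ha, ha']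
          | smul_tprod r a =>
            induction b using PiTensorProduct.induction_on with
            | add b b' hb hb' => simp only [TensorProduct.add_tmul, mul_add, map_add, hb, hb']
            | smul_tprod r' b =>
              simp only [← TensorProduct.smul_tmul', map_smul, smul_mul_smul_comm,
                Algebra.TensorProduct.tmul_mul_tmul, PiTensorProduct.tprod_mul_tprod, join_tmul]
              congr 2
              funext i
              refine Fin.addCases (fun j => ?_) (fun j => ?_) i <;> simp)

/-- Tensor powers of an algebra with geometrically reduced fibres have reduced fibres. -/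
theorem isReduced_tensor_pow (K : Type u) [Field K] [Algebra A K]
    [Algebra.IsGeometricallyReduced K (K ⊗[A] B)] : ∀ d : ℕ, IsReduced (K ⊗[A] (⨂[A] _ : Fin d, B)) := by
  intro d
  induction d with
  | zero =>
    let e := (Algebra.TensorProduct.congr (AlgEquiv.refl : K ≃ₐ[A] K)
      (powZero A B)).trans ((Algebra.TensorProduct.rid A A K))
    exact isReduced_of_injective e e.injective
  | succ d ih =>
    let T := ⨂[A] _ : Fin d, B
    have := FBaseLib.isReduced_tensor (k := K) (K ⊗[A] B) (K ⊗[A] T)
    let e₁ := Algebra.TensorProduct.cancelBaseChange A K K (K ⊗[A] T) B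
    have h1 : IsReduced ((K ⊗[A] T) ⊗[A] B) := isReduced_of_injective e₁.symm e₁.symm.injective
    let e₂ := (Algebra.TensorProduct.congr (AlgEquiv.refl : K ≃ₐ[A] K)
      (joinAlg A B d).symm).trans
      (Algebra.TensorProduct.assoc A A A K T B).symm
    exact isReduced_of_injective e₂ e₂.injective

/-- Divided powers of a flat algebra with geometrically reduced fibres have reduced fibres. -/
theorem isReduced_gamma {C : Type u} [CommRing C] [Algebra A C] {d : ℕ}
    {γ : MulLaw A B C d} (hγ : IsGammaD γ) [Module.Flat A B]
    (hred : ∀ (K : Type u) [Field K] [Algebra A K], IsReduced (K ⊗[A] B))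
    (K : Type u) [Field K] [Algebra A K] : IsReduced (K ⊗[A] C) := by
  haveI : Algebra.IsGeometricallyReduced K (K ⊗[A] B) := by
    refine (Algebra.isGeometricallyReduced_field_iff K _).mpr ?_
    have := hred (AlgebraicClosure K)
    let e := Algebra.TensorProduct.cancelBaseChange A K K (AlgebraicClosure K) B
    exact isReduced_of_injective e e.injective
  have := isReduced_tensor_pow (A := A) (B := B) K d
  obtain ⟨φ, hφ⟩ := exists_gammaD_tsMap γ hγ
  let f := Algebra.TensorProduct.map (AlgHom.id A K) ((SymTen.TS A B d).val.comp φ)
  refine isReduced_of_injective f ?_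
  let eTS : C ≃ₗ[A] invSub A B d :=
    (AlgEquiv.ofBijective φ ⟨phi_injective_of_flat γ φ hφ hγ, phi_surjective_of_flat γ φ hφ⟩).toLinearEquiv.trans
      (LinearEquiv.ofEq (SymTen.TS A B d).toSubmodule (invSub A B d)
        (Submodule.ext fun z => mem_invSub.symm))
  have hf : (f : K ⊗[A] C → _) = (invSub A B d).subtype.lTensor K ∘ eTS.toLinearMap.lTensor K := by
    funext w
    induction w using TensorProduct.induction_on with
    | zero => simp
    | add a b ha hb => simp only [map_add, ha, hb, Function.comp_apply]
    | tmul a b => rfl
  rw [hf]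
  exact (lTensor_invSub_injective K).comp (eTS.lTensor K).injective

end Groth.Agent.PolLib
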